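import Cfsg.Agent.Spor.G1365N1.D0

set_option autoImplicit false
set_option maxRecDepth 100000000
set_option Elab.async false

namespace Cfsg.Agent.Spor.G1365N1

theorem ok0 : Net.okb 1 n0 = true := by decide +kernel

theorem ok1 : Net.okb 1 n1 = true := by decide +kernel

theorem ok2 : Net.okb 1 n2 = true := by decide +kernel

theorem ok3 : Net.okb 1 n3 = true := by decide +kernel

theorem ok4 : Net.okb 1 n4 = true := by decide +kernel

theorem ok5 : Net.okb 1 n5 = true := by decide +kernel

theorem rel0 : T.rel 1 [1, 1] 0 1 = true := by decide +kernel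

theorem rel1 : T.rel 1 [2, 2] 0 1 = true := by decide +kernel

theorem rel2 : T.rel 1 [3, 3] 0 1 = true := by decide +kernel

theorem rel3 : T.rel 1 [4, 4] 0 1 = true := by decide +kernel

theorem rel4 : T.rel 1 [5, 5] 0 1 = true := by decide +kernel

theorem rel5 : T.rel 1 [6, 6] 0 1 = true := by decide +kernel

theorem rel6 : T.rel 1 [2, 1, 2, 1, 2, 1, 2, 1, 2, 1] 0 1 = true := by decide +kernel

theorem rel7 : T.rel 1 [3, 1, 3, 1] 0 1 = true := by decide +kernel

theorem rel8 : T.rel 1 [4, 1, 4, 1] 0 1 = true := by decide +kernel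

theorem rel9 : T.rel 1 [5, 1, 5, 1] 0 1 = true := by decide +kernel

theorem rel10 : T.rel 1 [6, 1, 6, 1] 0 1 = true := by decide +kernel

theorem rel11 : T.rel 1 [3, 2, 3, 2, 3, 2] 0 1 = true := by decide +kernel

theorem rel12 : T.rel 1 [4, 2, 4, 2] 0 1 = true := by decide +kernel

theorem rel13 : T.rel 1 [5, 2, 5, 2] 0 1 = true := by decide +kernel

theorem rel14 : T.rel 1 [6, 2, 6, 2, 6, 2] 0 1 = true := by decide +kernel

theorem rel15 : T.rel 1 [4, 3, 4, 3, 4, 3, 4, 3, 4, 3, 4, 3, 4, 3, 4, 3] 0 1 = true := by decide +kernel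

theorem rel16 : T.rel 1 [5, 3, 5, 3] 0 1 = true := by decide +kernel

theorem rel17 : T.rel 1 [6, 3, 6, 3] 0 1 = true := by decide +kernel

theorem rel18 : T.rel 1 [5, 4, 5, 4, 5, 4] 0 1 = true := by decide +kernel

theorem rel19 : T.rel 1 [6, 4, 6, 4] 0 1 = true := by decide +kernel

theorem rel20 : T.rel 1 [6, 5, 6, 5] 0 1 = true := by decide +kernel

theorem rel21 : T.rel 1 [3, 4, 3, 4, 3, 4, 3, 4, 1] 0 1 = true := by decide +kernel

theorem rel22 : T.rel 1 [6, 3, 2, 1, 6, 3, 2, 1, 6, 3, 2, 1, 6, 3, 2, 1, 6, 3, 2, 1] 0 1 = true := by decide +kernel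

theorem rel23 : T.rel 1 [5, 4, 3, 4, 3, 2, 4, 3, 4, 3, 2, 4, 3, 4, 3, 2, 4, 3, 4, 3, 2, 4, 3, 4, 3, 2, 5, 4, 3, 4, 3, 2, 4, 3, 4, 3, 2, 4, 3, 4, 3, 2, 4, 3, 4, 3, 2, 4, 3, 4, 3, 2, 5, 4, 3, 4, 3, 2, 4, 3, 4, 3, 2, 4, 3, 4, 3, 2, 4, 3, 4, 3, 2, 4, 3, 4, 3, 2] 0 1 = true := by decide +kernel

theorem rel24 : T.rel 1 [1] 0 1 = true := by decide +kernel

theorem rel25 : T.rel 1 [2, 6, 1, 2, 1, 2, 1, 2, 1, 2, 1, 6, 2] 0 1 = true := by decide +kernel

theorem hcov : T.treeCov (ones 1) L 1 = true := by decide +kernel

theorem hg : lall (fun z => band (memL L z) (band (sub (ones 1) (T.let z).cl) (T.closed (ones 1) z))) gs = true := by decide +kernel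

theorem hivk : ivOk (2 * 6) EX IV = true := by decide +kernel

theorem hrt : RT.ok (2 * 6) EX RL = true := by decide +kernel

theorem hdefs : defs F 27 = true := by decide +kernel

noncomputable def st0_l : List Nat := [nat_lit 0x1, nat_lit 0x8000dc02, nat_lit 0x1001, nat_lit 0x1d00001002, nat_lit 0x1e80000800072000030001e80000800072000030001e8000080a, nat_lit 0x18000fc02, nat_lit 0x60001c80001c03, nat_lit 0x200000c000410000380002405, nat_lit 0x2801, nat_lit 0x2300002802, nat_lit 0x248000200008600009000248000200008600009000248000200a, nat_lit 0x94000440002580001804, nat_lit 0x380013402, nat_lit 0xc0001c80003403, nat_lit 0xc0002080003403, nat_lit 0xe0002880003c03, nat_lit 0x100002880004403, nat_lit 0x100002980004403, nat_lit 0x480001c000530000780004c05, nat_lit 0x140000700004403, nat_lit 0x160002b80005c03, nat_lit 0x160002c80005c03, nat_lit 0x6001, nat_lit 0x3100006002, nat_lit 0x32800048000aa0001300032800048000aa00013000328000480a, nat_lit 0xcc0005a0003380003804, nat_lit 0x3400003802, nat_lit 0x140003480004403, nat_lit 0x3600017402,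 nat_lit 0x1a0002f80006c03, nat_lit 0x1c0003080007403, nat_lit 0x7800034000610000d80007c05, nat_lit 0x200000d00007403, nat_lit 0x8800038000160000800003005, nat_lit 0x9001, nat_lit 0x3d00009002, nat_lit 0x3e800078000e20001f0003e800078000e20001f0003e8000780a, nat_lit 0xfc000740003f80006804, nat_lit 0x4000006802, nat_lit 0x200004080007403, nat_lit 0x420001dc02, nat_lit 0x41800058000de000590000b80020c0002c0006f0002c80005c0010600016000378001640002e000830000b0001bc000b20001700041800058000de00059000080000300009e0000d0003580014c000180004f000068001ac000a60000c00027800034000d6000530000600013c0001a0006b000298000300009e0000d0003580014c000220001700041800058000de000590000b80020c0002c0006f0002c80005c0010600016000378001640002e000830000b0001bc000b20001700041800058000de00059000080000304e, nat_lit 0x790004400007403, nat_lit 0x4500008802, nat_lit 0x450001e402, nat_lit 0x438002340010e000730004680021c0011a00087000398002340010e0008d000438001cc0011a000870004680021c000e60008d000438002340010e0007300047800034000d60000c000278001040001a0006b0000600013c000820000d000358000300009e00041000068001ac000180004f00020800034000d60000c000278001040011c0008d000438002340010e000730004680021c0011a00087000398002340010e0008d000438001cc0011a000870004680021c000e60008d000438002340010e00073000478000344e,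 nat_lit 0x1200008c0004880003004, nat_lit 0x680024c02, nat_lit 0x260001c80009c03, nat_lit 0x260002080009c03, nat_lit 0x260002780009c03, nat_lit 0x280004b8000a403, nat_lit 0x280004c8000a403, nat_lit 0x2a0004e8000ac03, nat_lit 0xb0000540009f000158000b405, nat_lit 0xb801, nat_lit 0x520000b802, nat_lit 0x538000b0001420002d000538000b0001420002d000538000b00a, nat_lit 0x150000a2000548000a804, nat_lit 0x550000a802, nat_lit 0x568000a00013600099000148002b4000500009b0004c8000a40015a000280004d80026400052000ad0001400026c0013200029000568000a00013600099000130002540009e00095000278001040012a0004f0004a80013c0008200095000278002540009e000410004a80013c0012a0004f000208002540009e00095000278001040004e00029000568000a00013600099000148002b4000500009b0004c8000a40015a000280004d80026400052000ad0001400026c0013200029000568000a00013600099000130002544e, nat_lit 0x290005780025403, nat_lit 0x138002c402, nat_lit 0x300001c8000c403, nat_lit 0xc80006000041000188000cc05, nat_lit 0xd001, nat_lit 0x5c0000d002, nat_lit 0x5d8000c80016a000330005d8000c80016a000330005d8000c80a, nat_lit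 0x178000b60005e8000c004, nat_lit 0x188002fc02]
theorem st0 : band (steps F IV RT base st0_l 27) (Nat.beq (Nat.add 27 (llen st0_l)) 97) = true := by decide +kernel

theorem ep0a : T.treePath [] (Nat.shiftLeft 1 0) 1 = true := by decide +kernel

theorem ep0b : T.treePath [] (Nat.shiftLeft 1 0) 1 = true := by decide +kernel

theorem ep0c : band (lall (fun z => Nat.ble z 255) ([] ++ 1 :: [])) (concl F IV 97 0xe001 (encA ([] ++ 1 :: []) 0)) = true := by decide +kernel

theorem ep0d : band (Rule.ok (2 * 6) EX [] ⟨lapp [] [], [], 0, false⟩) (band (lall (memL L) []) (lall (memL L) [])) = true := by decide +kernel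

theorem cov1 : T.cover 1 [(Nat.shiftLeft 1 0)] = true := by decide +kernel

theorem tl1 : Nat.beq (T.let 1).tt 0 = true := by decide +kernel

theorem ep1a : T.treePath [] (Nat.shiftLeft 1 0) 1 = true := by decide +kernel

theorem ep1b : T.treePath [] (Nat.shiftLeft 1 0) 1 = true := by decide +kernel

theorem ep1c : band (lall (fun z => Nat.ble z 255) ([] ++ 2 :: [])) (concl F IV 97 0x10001 (encA ([] ++ 2 :: []) 0)) = true := by decide +kernel

theorem ep1d : band (Rule.ok (2 * 6) EX [] ⟨lapp [] [], [], 0, false⟩) (band (lall (memL L) []) (lall (memL L) [])) = true := by decide +kernel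

theorem cov2 : T.cover 2 [(Nat.shiftLeft 1 0)] = true := by decide +kernel

theorem tl2 : Nat.beq (T.let 2).tt 0 = true := by decide +kernel

theorem ep2a : T.treePath [] (Nat.shiftLeft 1 0) 1 = true := by decide +kernel

theorem ep2b : T.treePath [] (Nat.shiftLeft 1 0) 1 = true := by decide +kernel

theorem ep2c : band (lall (fun z => Nat.ble z 255) ([] ++ 3 :: [])) (concl F IV 97 0x13801 (encA ([] ++ 3 :: []) 0)) = true := by decide +kernel

theorem ep2d : band (Rule.ok (2 * 6) EX [] ⟨lapp [] [], [], 0, false⟩) (band (lall (memL L) []) (lall (memL L) [])) = true := by decide +kernel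

theorem cov3 : T.cover 3 [(Nat.shiftLeft 1 0)] = true := by decide +kernel

theorem tl3 : Nat.beq (T.let 3).tt 0 = true := by decide +kernel

theorem ep3a : T.treePath [] (Nat.shiftLeft 1 0) 1 = true := by decide +kernel

theorem ep3b : T.treePath [] (Nat.shiftLeft 1 0) 1 = true := by decide +kernel

theorem ep3c : band (lall (fun z => Nat.ble z 255) ([] ++ 4 :: [])) (concl F IV 97 0x25001 (encA ([] ++ 4 :: []) 0)) = true := by decide +kernel

theorem ep3d : band (Rule.ok (2 * 6) EX [] ⟨lapp [] [], [], 0, false⟩) (band (lall (memL L) []) (lall (memL L) [])) = true := by decide +kernel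

theorem cov4 : T.cover 4 [(Nat.shiftLeft 1 0)] = true := by decide +kernel

theorem tl4 : Nat.beq (T.let 4).tt 0 = true := by decide +kernel

theorem ep4a : T.treePath [] (Nat.shiftLeft 1 0) 1 = true := by decide +kernel

theorem ep4b : T.treePath [] (Nat.shiftLeft 1 0) 1 = true := by decide +kernel

theorem ep4c : band (lall (fun z => Nat.ble z 255) ([] ++ 5 :: [])) (concl F IV 97 0x2c801 (encA ([] ++ 5 :: []) 0)) = true := by decide +kernel

theorem ep4d : band (Rule.ok (2 * 6) EX [] ⟨lapp [] [], [], 0, false⟩) (band (lall (memL L) []) (lall (memL L) [])) = true := by decide +kernel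

theorem cov5 : T.cover 5 [(Nat.shiftLeft 1 0)] = true := by decide +kernel

theorem tl5 : Nat.beq (T.let 5).tt 0 = true := by decide +kernel

theorem ep5a : T.treePath [] (Nat.shiftLeft 1 0) 1 = true := by decide +kernel

theorem ep5b : T.treePath [] (Nat.shiftLeft 1 0) 1 = true := by decide +kernel

theorem ep5c : band (lall (fun z => Nat.ble z 255) ([] ++ 6 :: [])) (concl F IV 97 0x30001 (encA ([] ++ 6 :: []) 0)) = true := by decide +kernel

theorem ep5d : band (Rule.ok (2 * 6) EX [] ⟨lapp [] [], [], 0, false⟩) (band (lall (memL L) []) (lall (memL L) [])) = true := by decide +kernel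

theorem cov6 : T.cover 6 [(Nat.shiftLeft 1 0)] = true := by decide +kernel

theorem tl6 : Nat.beq (T.let 6).tt 0 = true := by decide +kernel

end Cfsg.Agent.Spor.G1365N1
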