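import Cfsg.Agent.Spor.Chk

set_option autoImplicit false
set_option maxRecDepth 100000000
set_option Elab.async false
noncomputable section

namespace Cfsg.Agent.Spor.G1365N1

def n0 : Net := Net.nil

def n1 : Net := Net.nil

def n2 : Net := Net.nil

def n3 : Net := Net.nil

def n4 : Net := Net.nil

def n5 : Net := Net.nil

def ip1 : List Nat := []
def l1 : Let := ⟨0, false, 0x1, 0x0, [0x0]⟩

def ip2 : List Nat := []
def l2 : Let := ⟨1, false, 0x1, 0x0, [0x0]⟩

def ip3 : List Nat := []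
def l3 : Let := ⟨2, false, 0x1, 0x0, [0x0]⟩

def ip4 : List Nat := []
def l4 : Let := ⟨3, false, 0x1, 0x0, [0x0]⟩

def ip5 : List Nat := []
def l5 : Let := ⟨4, false, 0x1, 0x0, [0x0]⟩

def ip6 : List Nat := []
def l6 : Let := ⟨5, false, 0x1, 0x0, [0x0]⟩

def F : Nat := nat_lit 0x60000000000000001900019000001a0001a010001a0001a000001b0001a060001a00019010001900000050000000000000001400000000001500015030001500015000001600016000001700017010001700017000001800017030001700016010001600015020001500015010001500014030001400014020001400014010001400000040000000000000000700007000000f00000050000f0000f040000f0000f000001200000000000c0000f030000f0000f00000110000c030000c0000c000000e0000e00000100001001000100001000000130000005000120000f03000110001003000100000f020000f0000e010000e00009030000900009000000b00007030000700007000000800008000000a0000a010000a0000a000000d0000c020000c0000c010000c00009030000b0000a030000a000090200009000090100009000080100008000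0702000070000701000070000003000000000000000040000400000050000501000050000500000060000503000050000401000040000002000000000000000020000201000020000200000030000001000000000000000010001b010001a0001a020001900019060000000018010001700017020001600016030001500015040001400014050000000013010001000012040000f00011050000e00010020000e0000f050000c0000e030000c0000d010000a0000c04000090000b05000080000a0200008000090500007000080300007000070400000000060100005000050200004000040300000000030100002000020200000000010100000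

def rt0_9 : RTree := RTree.node 0x404 ⟨[4, 4], [], 20, false⟩ (RTree.node 0x202 ⟨[2, 2], [], 20, false⟩ (RTree.node 0x101 ⟨[1, 1], [], 20, false⟩ (RTree.node 0x1 ⟨[1], [], 18, true⟩ (RTree.leaf) (RTree.leaf)) (RTree.leaf)) (RTree.node 0x303 ⟨[3, 3], [], 20, false⟩ (RTree.leaf) (RTree.leaf))) (RTree.node 0x1030103 ⟨[1, 3, 1, 3], [], 1, false⟩ (RTree.node 0x606 ⟨[6, 6], [], 20, false⟩ (RTree.node 0x505 ⟨[5, 5], [], 20, false⟩ (RTree.leaf) (RTree.leaf)) (RTree.leaf)) (RTree.node 0x1040104 ⟨[1, 4, 1, 4], [], 2, false⟩ (RTree.leaf) (RTree.leaf)))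
def rt10_19 : RTree := RTree.node 0x30203020302 ⟨[3, 2, 3, 2, 3, 2], [], 5, true⟩ (RTree.node 0x2050205 ⟨[2, 5, 2, 5], [], 7, false⟩ (RTree.node 0x2040204 ⟨[2, 4, 2, 4], [], 6, false⟩ (RTree.node 0x1060106 ⟨[1, 6, 1, 6], [], 4, false⟩ (RTree.leaf) (RTree.leaf)) (RTree.leaf)) (RTree.node 0x3050305 ⟨[3, 5, 3, 5], [], 10, false⟩ (RTree.leaf) (RTree.leaf))) (RTree.node 0x2010201020102010201 ⟨[2, 1, 2, 1, 2, 1, 2, 1, 2, 1], [], 0, true⟩ (RTree.node 0x60206020602 ⟨[6, 2, 6, 2, 6, 2], [], 8, true⟩ (RTree.node 0x50405040504 ⟨[5, 4, 5, 4, 5, 4], [], 12, true⟩ (RTree.leaf) (RTree.leaf)) (RTree.leaf)) (RTree.node 0x40502030403040203040304020304030402030403040203040304050203040304020304030402030403040203040304020304030405020304030402030403040203040304020304030402030403 ⟨[4, 5, 2, 3, 4, 3, 4, 2, 3, 4, 3, 4, 2, 3, 4, 3, 4, 2, 3, 4, 3, 4, 2, 3, 4, 3, 4, 5, 2, 3, 4, 3, 4, 2, 3, 4, 3, 4, 2, 3, 4, 3, 4, 2, 3, 4, 3, 4, 2, 3, 4, 3, 4, 5, 2, 3,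 4, 3, 4, 2, 3, 4, 3, 4, 2, 3, 4, 3, 4, 2, 3, 4, 3, 4, 2, 3, 4, 3], [8, 6], 17, false⟩ (RTree.leaf) (RTree.leaf)))
def rt0_19 : RTree := RTree.node 0x1050105 ⟨[1, 5, 1, 5], [], 3, false⟩ (rt0_9) (rt10_19)
def RT : RTree := rt0_19

def NT : List Net := [n0, n1, n2, n3, n4, n5]
def LT : List Let := [⟨0, false, 0, 0, []⟩, l1, l2, l3, l4, l5, l6]
def T : Tab := ⟨NT, LT⟩
def EX : List (List Nat) := [[], [0], [2], [4], [6], [8], [10]]
def RL : List (List Nat) := [[0, 2, 0, 2, 0, 2, 0, 2, 0, 2], [0, 4, 0, 4], [0, 6, 0, 6], [0, 8, 0, 8], [0, 10, 0, 10], [2, 4, 2, 4, 2, 4], [2, 6, 2, 6], [2, 8, 2, 8], [2, 10, 2, 10, 2, 10], [4, 6, 4, 6, 4, 6, 4, 6, 4, 6, 4, 6, 4, 6, 4, 6], [4, 8, 4, 8], [4, 10, 4, 10], [6, 8, 6, 8, 6, 8], [6, 10, 6, 10], [8, 10, 8, 10], [0, 6, 4, 6, 4, 6, 4, 6, 4], [0, 2, 4, 10, 0, 2, 4, 10, 0, 2, 4, 10, 0, 2, 4, 10, 0, 2, 4, 10], [2, 4, 6, 4, 6, 2, 4, 6, 4, 6, 2, 4, 6, 4, 6, 2, 4, 6, 4, 6, 2, 4, 6, 4, 6, 8, 2, 4, 6,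 4, 6, 2, 4, 6, 4, 6, 2, 4, 6, 4, 6, 2, 4, 6, 4, 6, 2, 4, 6, 4, 6, 8, 2, 4, 6, 4, 6, 2, 4, 6, 4, 6, 2, 4, 6, 4, 6, 2, 4, 6, 4, 6, 2, 4, 6, 4, 6, 8], [0], [2, 10, 0, 2, 0, 2, 0, 2, 0, 2, 0, 10, 2]]
def XL : List (List Nat) := []
def BW : List (List Nat) := []
def IV : Nat := 0x6050403020100
def L : List Nat := [1, 2, 3, 4, 5, 6]
def gs : List Nat := [1, 2, 3, 4, 5, 6]
def base : List Nat := []

end Cfsg.Agent.Spor.G1365N1
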